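import Mathlib.RingTheory.MvPolynomial.EulerIdentity
import Mathlib.RingTheory.Derivation.Lie
import Mathlib.Algebra.MvPolynomial.Funext
import Mathlib.FieldTheory.IsAlgClosed.Basic
import Mathlib.LinearAlgebra.Matrix.ToLin
import Mathlib.Tactic

/-! Cubic surfaces with an Eckardt point: the associated harmonic homology. -/

namespace Groth.Agent.CubicSurface
open MvPolynomial

abbrev V (K : Type*) := Fin 4 → K
variable {K : Type*} [Field K] [CharZero K] (f : MvPolynomial (Fin 4) K)

/-- third derivative coefficient -/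
noncomputable def c3 (i j k : Fin 4) : K := eval 0 (pderiv k (pderiv j (pderiv i f)))

/-- the symmetric trilinear form of a cubic form -/
noncomputable def S (x y z : (V K)) : K := (1/6) * ∑ i, ∑ j, ∑ k, x i * y j * z k * c3 f i j k

lemma pderiv_comm' (i j : Fin 4) (p : MvPolynomial (Fin 4) K) :
    pderiv i (pderiv j p) = pderiv j (pderiv i p) := by
  have h : ⁅pderiv (R := K) i, pderiv (R := K) j⁆ = 0 := by
    apply MvPolynomial.derivation_ext
    intro m
    simp [Derivation.commutator_apply, pderiv_X, Pi.single_apply, apply_ite]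
  have := congrArg (fun D => D p) h
  simp only [Derivation.commutator_apply, Derivation.coe_zero, Pi.zero_apply] at this
  exact sub_eq_zero.1 this

lemma c3_comm12 (i j k : Fin 4) : c3 f i j k = c3 f j i k := by rw [c3, c3, pderiv_comm' i j]
lemma c3_comm23 (i j k : Fin 4) : c3 f i j k = c3 f i k j := by rw [c3, c3, pderiv_comm' j k]

lemma S_comm12 (x y z : (V K)) : S f x y z = S f y x z := by
  simp only [S]; congr 1
  rw [Finset.sum_comm]
  exact Finset.sum_congr rfl fun i _ => Finset.sum_congr rfl fun j _ => Finset.sum_congr rfl fun k _ => by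
    rw [c3_comm12]; ring

lemma S_comm23 (x y z : (V K)) : S f x y z = S f x z y := by
  simp only [S]; congr 1
  refine Finset.sum_congr rfl fun i _ => ?_
  rw [Finset.sum_comm]
  exact Finset.sum_congr rfl fun j _ => Finset.sum_congr rfl fun k _ => by rw [c3_comm23]; ring

lemma S_add3 (x y a b : (V K)) : S f x y (a + b) = S f x y a + S f x y b := by
  simp [S, mul_add, add_mul, Finset.sum_add_distrib]

lemma S_smul3 (x y a : (V K)) (r : K) : S f x y (r • a) = r * S f x y a := by
  simp only [S, Pi.smul_apply, smul_eq_mul, Finset.mul_sum]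
  exact Finset.sum_congr rfl fun i _ => Finset.sum_congr rfl fun j _ => Finset.sum_congr rfl fun k _ => by ring

lemma S_add2 (x z a b : (V K)) : S f x (a + b) z = S f x a z + S f x b z := by
  rw [S_comm23, S_add3, S_comm23 f x z a, S_comm23 f x z b]
lemma S_smul2 (x z a : (V K)) (r : K) : S f x (r • a) z = r * S f x a z := by
  rw [S_comm23, S_smul3, S_comm23 f x z a]
lemma S_add1 (y z a b : (V K)) : S f (a + b) y z = S f a y z + S f b y z := by
  rw [S_comm12, S_add2, S_comm12 f y a, S_comm12 f y b]
lemma S_smul1 (y z a : (V K)) (r : K) : S f (r • a) y z = r * S f a y z := by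
  rw [S_comm12, S_smul2, S_comm12 f y a]

/-- `S x y ·` as a linear form. -/
noncomputable def SL (x y : (V K)) : (V K) →ₗ[K] K where
  toFun z := S f x y z
  map_add' := S_add3 f x y
  map_smul' r z := S_smul3 f x y z r

@[simp] lemma SL_apply (x y z : (V K)) : SL f x y z = S f x y z := rfl

variable {f}
variable (hf : f.IsHomogeneous 3)
include hf

lemma c3_const (i j k : Fin 4) (x : (V K)) : eval x (pderiv k (pderiv j (pderiv i f))) = c3 f i j k := by
  have h : (pderiv k (pderiv j (pderiv i f))).IsHomogeneous 0 := hf.pderiv.pderiv.pderiv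
  rw [← totalDegree_zero_iff_isHomogeneous, totalDegree_eq_zero_iff_eq_C] at h
  rw [c3, h]; simp

lemma eval_pderiv_eq (v : (V K)) (i : Fin 4) :
    eval v (pderiv i f) = (1/2) * ∑ j, ∑ k, v j * v k * c3 f i j k := by
  have h1 := congrArg (eval v) (hf.pderiv (i := i)).sum_X_mul_pderiv
  have h2 : ∀ j, eval v (pderiv j (pderiv i f)) = ∑ k, v k * c3 f i j k := by
    intro j
    have := congrArg (eval v) ((hf.pderiv (i := i)).pderiv (i := j)).sum_X_mul_pderiv
    simp only [map_sum, map_mul, eval_X, c3_const hf] at this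
    simpa using this.symm
  simp only [map_sum, map_mul, eval_X, h2, Finset.mul_sum] at h1
  norm_num at h1
  have e : ∑ j, ∑ k, v j * v k * c3 f i j k = ∑ j, ∑ k, v j * (v k * c3 f i j k) := by
    simp only [mul_assoc]
  rw [e, h1]; ring

lemma eval_eq_S (v : (V K)) : eval v f = S f v v v := by
  have h1 := congrArg (eval v) hf.sum_X_mul_pderiv
  simp only [map_sum, map_mul, eval_X, eval_pderiv_eq hf, nsmul_eq_mul, map_natCast] at h1
  have : ∑ i, ∑ j, ∑ k, v i * v j * v k * c3 f i j k = 6 * eval v f := by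
    have h3 : (2:K) * ∑ i, v i * (1 / 2 * ∑ j, ∑ k, v j * v k * c3 f i j k) =
        ∑ i, ∑ j, ∑ k, v i * v j * v k * c3 f i j k := by
      simp only [Finset.mul_sum]
      exact Finset.sum_congr rfl fun i _ => Finset.sum_congr rfl fun j _ => Finset.sum_congr rfl fun k _ => by ring
    rw [← h3, h1]; push_cast; ring
  rw [S, this]; ring

lemma eval_pderiv_eq_S (v : (V K)) (i : Fin 4) : eval v (pderiv i f) = 3 * S f v v (Pi.single i 1) := by
  rw [S_comm23 f v v (Pi.single i 1), S_comm12 f v (Pi.single i 1) v, eval_pderiv_eq hf, S]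
  simp only [Pi.single_apply]
  conv_rhs => rw [Finset.sum_eq_single i (fun b _ hb => by simp [hb]) (by simp)]
  simp only [if_pos, one_mul]; ring

omit hf

/-- smoothness in terms of `S` -/
def Smooth (f : MvPolynomial (Fin 4) K) : Prop := ∀ v : (V K), v ≠ 0 → S f v v v = 0 → SL f v v ≠ 0

lemma smooth_of (hf : f.IsHomogeneous 3)
    (hsm : ∀ v : (V K), v ≠ 0 → eval v f = 0 → ∃ i : Fin 4, eval v (pderiv i f) ≠ 0) : Smooth f := by
  intro v hv h hz
  obtain ⟨i, hi⟩ := hsm v hv (by rw [eval_eq_S hf, h])
  apply hi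
  rw [eval_pderiv_eq_S hf, ← SL_apply, hz]; simp

lemma expand (x y : (V K)) (t : K) : S f (x + t • y) (x + t • y) (x + t • y) =
    S f x x x + 3 * t * S f x x y + 3 * t ^ 2 * S f x y y + t ^ 3 * S f y y y := by
  simp only [S_add1, S_add2, S_add3, S_smul1, S_smul2, S_smul3]
  rw [S_comm23 f x y x, S_comm12 f y x x, S_comm23 f x y x, S_comm12 f y x y, S_comm23 f y y x,
    S_comm12 f y x y]
  ring

variable [IsAlgClosed K]

/-- no plane lies on a smooth cubic surface -/
lemma no_plane (hs : Smooth f) (φ : (V K) →ₗ[K] K) (hφ : φ ≠ 0)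
    (h : ∀ x, φ x = 0 → S f x x x = 0) : False := by
  obtain ⟨w, hw⟩ : ∃ w, φ w ≠ 0 := by
    by_contra hc; push Not at hc; exact hφ (LinearMap.ext hc)
  have hbi : ∀ a b, φ a = 0 → φ b = 0 → S f a a b = 0 := by
    intro a b ha hb
    have h1 := h (a + (1:K) • b) (by simp [ha, hb])
    have h2 := h (a + (-1:K) • b) (by simp [ha, hb])
    rw [expand, h a ha, h b hb] at h1 h2
    linear_combination (h1 - h2) / 6
  -- an isotropic vector for the conormal quadratic form
  obtain ⟨v, hv0, hvH, hvw⟩ : ∃ v, v ≠ 0 ∧ φ v = 0 ∧ S f v v w = 0 := by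
    have hk : 2 ≤ Module.finrank K (LinearMap.ker φ) := by
      have := LinearMap.finrank_range_add_finrank_ker φ
      have hr : Module.finrank K (LinearMap.range φ) ≤ 1 := by
        simpa using Submodule.finrank_le (LinearMap.range φ)
      simp at this; omega
    obtain ⟨a, ha⟩ : ∃ a : LinearMap.ker φ, a ≠ 0 := by
      haveI : Nontrivial (LinearMap.ker φ) := Module.nontrivial_of_finrank_pos (R := K) (by omega)
      exact exists_ne 0
    obtain ⟨b, hb⟩ : ∃ b : LinearMap.ker φ, b ∉ Submodule.span K {a} := by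
      by_contra hc; push Not at hc
      have : Submodule.span K {a} = ⊤ := Submodule.eq_top_iff'.2 hc
      have h2 : Module.finrank K ↥(Submodule.span K {a}) = Module.finrank K (LinearMap.ker φ) := by rw [this, finrank_top]
      rw [finrank_span_singleton ha] at h2; omega
    by_cases hA : S f a a w = 0
    · exact ⟨a, by simpa using ha, a.2, hA⟩
    obtain ⟨t, ht⟩ := IsAlgClosed.exists_root (k := K)
      (Polynomial.C (S f a a w) * Polynomial.X ^ 2 + Polynomial.C (2 * S f a b w) * Polynomial.X
        + Polynomial.C (S f b b w)) (by rw [Polynomial.degree_quadratic hA]; decide)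
    refine ⟨(b : (V K)) + t • (a : (V K)), ?_, by have h1 : φ a = 0 := a.2; have h2 : φ b = 0 := b.2; simp [h1, h2], ?_⟩
    · intro h0
      apply hb
      have : b = (-t) • a := by
        apply Subtype.ext
        simp only [Submodule.coe_smul]
        rw [neg_smul]; exact eq_neg_of_add_eq_zero_left h0
      rw [this]; exact Submodule.smul_mem _ _ (Submodule.mem_span_singleton_self a)
    · simp [Polynomial.IsRoot] at ht
      simp only [S_add1, S_add2, S_smul1, S_smul2]
      rw [S_comm12 f b a w]
      linear_combination ht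
  refine hs v hv0 (h v hvH) (LinearMap.ext fun z => ?_)
  have hz : z = (z - (φ z / φ w) • w) + (φ z / φ w) • w := by simp
  have hz0 : φ (z - (φ z / φ w) • w) = 0 := by simp [hw]
  rw [hz, map_add, map_smul]
  simp [SL_apply, hbi v _ hvH hz0, hvw]

/-- an Eckardt point -/
def IsEckardt (f : MvPolynomial (Fin 4) K) (e : (V K)) : Prop :=
  ∃ U : Fin 3 → Submodule K (V K), Function.Injective U ∧
    ∀ i : Fin 3, Module.finrank K ↥(U i) = 2 ∧ e ∈ U i ∧ ∀ u ∈ U i, eval u f = 0

structure EData (f : MvPolynomial (Fin 4) K) (e : (V K)) where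
  M : (V K) →ₗ[K] K
  he : e ≠ 0
  fe : S f e e e = 0
  Te : SL f e e ≠ 0
  Me : M e = 2
  hQ : ∀ x, S f x x e = M x * S f x e e

lemma span_pair_eq_of {U : Submodule K (V K)} (hU : Module.finrank K U = 2) {a b : (V K)} (ha : a ∈ U) (hb : b ∈ U)
    (ha0 : a ≠ 0) (hab : b ∉ Submodule.span K {a}) (u : (V K)) (hu : u ∈ U) :
    ∃ α β : K, u = α • a + β • b := by
  have hle : Submodule.span K {a, b} ≤ U := Submodule.span_le.2 (by rintro x (rfl | rfl) <;> assumption)
  have hlt : Submodule.span K {a} < Submodule.span K {a, b} := by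
    refine lt_of_le_of_ne (Submodule.span_mono (by simp)) fun h => hab ?_
    rw [h]; exact Submodule.subset_span (by simp)
  have := Submodule.finrank_lt_finrank_of_lt hlt
  rw [finrank_span_singleton ha0] at this
  have heq := Submodule.eq_of_le_of_finrank_le hle (by omega)
  rw [← heq, Submodule.mem_span_pair] at hu
  obtain ⟨α, β, h⟩ := hu
  exact ⟨α, β, h.symm⟩

theorem exists_EData (hf : f.IsHomogeneous 3) (hs : Smooth f) (e : (V K)) (he : e ≠ 0) (hE : IsEckardt f e) :
    Nonempty (EData f e) := by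
  obtain ⟨U, hinj, hU⟩ := hE
  have fe : S f e e e = 0 := by rw [← eval_eq_S hf]; exact (hU 0).2.2 e (hU 0).2.1
  have hline : ∀ i, ∀ u ∈ U i, S f u u e = 0 ∧ S f u e e = 0 := by
    intro i u hu
    have g : ∀ t : K, S f (u + t • e) (u + t • e) (u + t • e) = 0 := fun t => by
      rw [← eval_eq_S hf]
      exact (hU i).2.2 _ (Submodule.add_mem _ hu (Submodule.smul_mem _ _ (hU i).2.1))
    have hu0 : S f u u u = 0 := by rw [← eval_eq_S hf]; exact (hU i).2.2 u hu
    have h1 := g 1; have h2 := g (-1)
    rw [expand, hu0, fe] at h1 h2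
    constructor
    · linear_combination (h1 - h2) / 6
    · linear_combination (h1 + h2) / 6
  have Te := hs e he fe
  set H := LinearMap.ker (SL f e e) with hH
  have hUH : ∀ i, U i ≤ H := fun i u hu => by
    rw [hH, LinearMap.mem_ker, SL_apply, S_comm23, S_comm12]; exact (hline i u hu).2
  have hHdim : Module.finrank K H ≤ 3 := by
    have := Submodule.finrank_lt (s := H) (by rw [hH, ne_eq, LinearMap.ker_eq_top]; exact Te)
    simp at this; omega
  -- pick a vector on each line
  have hv : ∀ i, ∃ v ∈ U i, v ∉ Submodule.span K {e} := by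
    intro i
    by_contra hc; push Not at hc
    have := Submodule.finrank_mono hc
    rw [(hU i).1, finrank_span_singleton he] at this; omega
  choose v hvU hve using hv
  have hnot : ∀ i j, i ≠ j → v i ∉ U j := by
    intro i j hij hmem
    apply hij; apply hinj
    apply Submodule.eq_of_le_of_finrank_le
    · intro u hu
      obtain ⟨α, β, rfl⟩ := span_pair_eq_of (hU i).1 (hU i).2.1 (hvU i) he (hve i) u hu
      exact Submodule.add_mem _ (Submodule.smul_mem _ _ (hU j).2.1) (Submodule.smul_mem _ _ hmem)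
    · rw [(hU i).1, (hU j).1]
  have hsup : U 0 ⊔ U 1 = H := by
    apply Submodule.eq_of_le_of_finrank_le (sup_le (hUH 0) (hUH 1))
    have : U 0 < U 0 ⊔ U 1 := lt_of_le_of_ne le_sup_left fun h =>
      hnot 1 0 (by decide) (by rw [h]; exact Submodule.mem_sup_right (hvU 1))
    have := Submodule.finrank_lt_finrank_of_lt this
    rw [(hU 0).1] at this; omega
  have hQH : ∀ h ∈ H, S f h h e = 0 := by
    obtain ⟨a, ha, b, hb, hab⟩ := Submodule.mem_sup.1 (hsup.symm ▸ hUH 2 (hvU 2) : v 2 ∈ U 0 ⊔ U 1)
    have haE : a ∉ Submodule.span K {e} := fun h => hnot 2 1 (by decide) (by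
      rw [← hab]; exact Submodule.add_mem _ ((Submodule.span_singleton_le_iff_mem _ _).2 (hU 1).2.1 h) hb)
    have hbE : b ∉ Submodule.span K {e} := fun h => hnot 2 0 (by decide) (by
      rw [← hab]; exact Submodule.add_mem _ ha ((Submodule.span_singleton_le_iff_mem _ _).2 (hU 0).2.1 h))
    have key : S f a b e = 0 := by
      have := (hline 2 _ (hvU 2)).1
      rw [← hab] at this
      simp only [S_add1, S_add2] at this
      rw [(hline 0 a ha).1, (hline 1 b hb).1, S_comm12 f b a e] at this
      linear_combination this / 2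
    intro h hh
    rw [← hsup] at hh
    obtain ⟨u1, hu1, u2, hu2, rfl⟩ := Submodule.mem_sup.1 hh
    obtain ⟨α, β, rfl⟩ := span_pair_eq_of (hU 0).1 (hU 0).2.1 ha he haE u1 hu1
    obtain ⟨γ, δ, rfl⟩ := span_pair_eq_of (hU 1).1 (hU 1).2.1 hb he hbE u2 hu2
    simp only [S_add1, S_add2, S_smul1, S_smul2]
    rw [S_comm12 f e a e, S_comm12 f e b e, S_comm12 f b a e, (hline 0 a ha).2, (hline 1 b hb).2,
      (hline 0 a ha).1, (hline 1 b hb).1, key, fe]
    ring
  obtain ⟨w, hw⟩ : ∃ w, S f e e w = 1 := by
    obtain ⟨z, hz⟩ : ∃ z, S f e e z ≠ 0 := by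
      by_contra hc; push Not at hc; exact Te (LinearMap.ext hc)
    exact ⟨(S f e e z)⁻¹ • z, by rw [S_smul3]; exact inv_mul_cancel₀ hz⟩
  have hw' : S f w e e = 1 := by rw [S_comm12, S_comm23, hw]
  refine ⟨⟨(2 : K) • ((SL f w e).comp (LinearMap.id - (SL f e e).smulRight w)) + S f w w e • SL f e e,
    he, fe, Te, ?_, ?_⟩⟩
  · simp only [LinearMap.add_apply, LinearMap.smul_apply, LinearMap.comp_apply, LinearMap.sub_apply,
      LinearMap.id_apply, LinearMap.smulRight_apply, SL_apply, fe, hw', smul_eq_mul, zero_smul, sub_zero,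
      mul_zero, add_zero, mul_one]
  · intro x
    have hT : S f x e e = S f e e x := by rw [S_comm12, S_comm23]
    set T := S f e e x with hTdef
    set h := x - T • w with hh
    have hmem : h ∈ H := by
      rw [hH, LinearMap.mem_ker, hh, map_sub, map_smul, SL_apply, SL_apply, hw, hTdef]; simp
    have hx : x = h + T • w := by rw [hh]; simp
    simp only [LinearMap.add_apply, LinearMap.smul_apply, LinearMap.comp_apply, LinearMap.sub_apply,
      LinearMap.id_apply, LinearMap.smulRight_apply, SL_apply, smul_eq_mul]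
    rw [hT, ← hh]
    conv_lhs => rw [hx]
    simp only [S_add1, S_add2, S_smul1, S_smul2]
    rw [hQH h hmem, S_comm12 f h w e, S_comm23 f w e h]
    ring

namespace EData
variable {e : (V K)} (D : EData f e)

/-- the harmonic homology -/
noncomputable def refl : (V K) →ₗ[K] (V K) := LinearMap.id - D.M.smulRight e

lemma refl_apply (x : (V K)) : D.refl x = x - D.M x • e := rfl

lemma refl_refl (x : (V K)) : D.refl (D.refl x) = x := by
  simp only [refl_apply, map_sub, map_smul, D.Me, smul_eq_mul]
  module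

lemma refl_e : D.refl e = -e := by rw [refl_apply, D.Me]; module

lemma S_move (x : (V K)) (m : K) : S f (x + (-m) • e) (x + (-m) • e) (x + (-m) • e) =
    S f x x x + 3 * S f x e e * (m * (m - D.M x)) := by
  rw [expand, D.hQ, D.fe]; ring

lemma S_refl (x : (V K)) : S f (D.refl x) (D.refl x) (D.refl x) = S f x x x := by
  have h : D.refl x = x + (-D.M x) • e := by rw [refl_apply]; module
  rw [h, D.S_move]; ring

/-- `T` as a linear form -/
lemma T_eq (x : (V K)) : S f x e e = SL f e e x := by rw [SL_apply, S_comm12, S_comm23]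

lemma finrank_ker_M : Module.finrank K (LinearMap.ker D.M) = 3 := by
  have h := LinearMap.finrank_range_add_finrank_ker D.M
  have hr : LinearMap.range D.M = ⊤ := LinearMap.range_eq_top.2 fun c =>
    ⟨(c / 2) • e, by simp [D.Me]⟩
  rw [hr, finrank_top] at h
  simp at h; omega

end EData

lemma exists_three_ne (φ ψ χ : (V K) →ₗ[K] K) (h1 : φ ≠ 0) (h2 : ψ ≠ 0) (h3 : χ ≠ 0) :
    ∃ x, φ x * (ψ x * χ x) ≠ 0 := by
  have key : ∀ φ' ψ' : (V K) →ₗ[K] K, φ' ≠ 0 → ψ' ≠ 0 → ∃ x, φ' x ≠ 0 ∧ ψ' x ≠ 0 := by
    intro a b ha hb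
    by_contra hc; push Not at hc
    obtain ⟨x, hx⟩ : ∃ x, a x ≠ 0 := by
      by_contra h; push Not at h; exact ha (LinearMap.ext h)
    obtain ⟨y, hy⟩ : ∃ y, b y ≠ 0 := by
      by_contra h; push Not at h; exact hb (LinearMap.ext h)
    have hbx := hc x hx
    have hay : a y = 0 := by by_contra h; exact hy (hc y h)
    have := hc (x + y) (by simp [hay, hx])
    simp [hbx, hy] at this
  obtain ⟨x, hx1, hx2⟩ := key φ ψ h1 h2
  obtain ⟨y, hy⟩ : ∃ y, χ y ≠ 0 := by
    by_contra h; push Not at h; exact h3 (LinearMap.ext h)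
  by_contra hc; push Not at hc
  have hp : (Polynomial.C (φ x) + Polynomial.C (φ y) * Polynomial.X) *
      ((Polynomial.C (ψ x) + Polynomial.C (ψ y) * Polynomial.X) *
        (Polynomial.C (χ x) + Polynomial.C (χ y) * Polynomial.X)) = 0 := by
    apply Polynomial.funext
    intro t
    have := hc (x + t • y)
    simp only [map_add, map_smul, smul_eq_mul] at this
    simp only [Polynomial.eval_mul, Polynomial.eval_add, Polynomial.eval_C, Polynomial.eval_X, Polynomial.eval_zero]
    linear_combination this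
  rcases mul_eq_zero.1 hp with h | h
  · apply hx1; simpa using congrArg (Polynomial.eval 0) h
  rcases mul_eq_zero.1 h with h | h
  · apply hx2; simpa using congrArg (Polynomial.eval 0) h
  · apply hy; simpa using congrArg (fun p => Polynomial.coeff p 1) h

lemma eval_aeval_lin (A : Matrix (Fin 4) (Fin 4) K) (x : (V K)) :
    eval x (aeval (fun i : Fin 4 => ∑ j : Fin 4, C (A i j) * X j) f) = eval (A.mulVec x) f := by
  rw [← aeval_eq_eval, ← aeval_eq_eval, ← AlgHom.comp_apply, comp_aeval]
  congr 2
  ext i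
  simp [Matrix.mulVec, dotProduct]

/-- the condition in the statements -/
def IsInvol (f : MvPolynomial (Fin 4) K) (e : (V K)) (A : Matrix (Fin 4) (Fin 4) K) : Prop :=
  A * A = 1 ∧ Module.finrank K ↥(LinearMap.ker (Matrix.toLin' A - LinearMap.id)) = 3 ∧
    A.mulVec e = -e ∧ ∃ c : K, aeval (fun i : Fin 4 => ∑ j : Fin 4, C (A i j) * X j) f = C c * f

namespace EData
variable {e : (V K)} (D : EData f e)

lemma eq_refl (hf : f.IsHomogeneous 3) (hs : Smooth f) {A : Matrix (Fin 4) (Fin 4) K}
    (hA : IsInvol f e A) : Matrix.toLin' A = D.refl := by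
  obtain ⟨_, hker, hAe, c, hc⟩ := hA
  set L := LinearMap.id - Matrix.toLin' A with hL
  have hker' : Module.finrank K (LinearMap.ker L) = 3 := by
    rw [hL, ← neg_sub, LinearMap.ker_neg, hker]
  have hLe : L e = (2:K) • e := by
    rw [hL, LinearMap.sub_apply, LinearMap.id_apply, Matrix.toLin'_apply, hAe]; module
  have hr : LinearMap.range L = Submodule.span K {e} := by
    symm
    apply Submodule.eq_of_le_of_finrank_le
    · rw [Submodule.span_singleton_le_iff_mem]
      exact ⟨(1/2 : K) • e, by rw [map_smul, hLe, smul_smul]; norm_num⟩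
    · rw [finrank_span_singleton D.he]
      have := LinearMap.finrank_range_add_finrank_ker L
      erw [hker'] at this
      rw [Module.finrank_fin_fun] at this
      exact (Nat.add_right_cancel (m := 3) (k := 1) this).le
  -- the functional
  let φ : (V K) →ₗ[K] K := (1/2 : K) • D.M
  have hφ : φ e = 1 := by simp [φ, D.Me]
  let N := φ.comp L
  have hN : ∀ x, L x = N x • e := by
    intro x
    have : L x ∈ Submodule.span K {e} := by rw [← hr]; exact LinearMap.mem_range_self L x
    obtain ⟨a, ha⟩ := Submodule.mem_span_singleton.1 this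
    simp only [N, LinearMap.comp_apply, ← ha, map_smul, hφ, smul_eq_mul, mul_one]
  have hNe : N e = 2 := by simp [N, hLe, hφ]
  have hA' : ∀ x, A.mulVec x = x + (-N x) • e := by
    intro x
    have := hN x
    rw [hL, LinearMap.sub_apply, LinearMap.id_apply, Matrix.toLin'_apply] at this
    rw [neg_smul, ← this]; abel
  have hmain : ∀ x, c * S f x x x = S f x x x + 3 * S f x e e * (N x * (N x - D.M x)) := by
    intro x
    rw [← D.S_move, ← hA', ← eval_eq_S hf (A.mulVec x), ← eval_aeval_lin, hc, map_mul, eval_C, eval_eq_S hf]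
  have hc1 : c = 1 := by
    by_contra h
    refine no_plane hs (SL f e e) D.Te fun x hx => ?_
    have := hmain x
    rw [T_eq (e := e), hx] at this
    have : (c - 1) * S f x x x = 0 := by linear_combination this
    exact (mul_eq_zero.1 this).resolve_left (sub_ne_zero.2 h)
  have hNM : N = D.M := by
    by_contra h
    obtain ⟨x, hx⟩ := exists_three_ne (SL f e e) N (N - D.M) D.Te
      (fun h0 => by rw [h0] at hNe; simp at hNe) (sub_ne_zero.2 h)
    apply hx
    have := hmain x
    rw [hc1, T_eq (e := e)] at this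
    simp only [LinearMap.sub_apply]
    linear_combination -this / 3
  apply LinearMap.ext; intro x
  rw [Matrix.toLin'_apply, hA', hNM, refl_apply]; module

lemma toMatrix_isInvol (hf : f.IsHomogeneous 3) : IsInvol f e (LinearMap.toMatrix' D.refl) := by
  refine ⟨?_, ?_, ?_, 1, ?_⟩
  · rw [← LinearMap.toMatrix'_comp, ← LinearMap.toMatrix'_id]
    congr 1
    exact LinearMap.ext D.refl_refl
  · rw [Matrix.toLin'_toMatrix']
    rw [show LinearMap.ker (D.refl - LinearMap.id) = LinearMap.ker D.M by
      ext x; simp [refl_apply, D.he]]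
    exact D.finrank_ker_M
  · rw [← Matrix.toLin'_apply, Matrix.toLin'_toMatrix', refl_e]
  · apply MvPolynomial.funext
    intro x
    rw [eval_aeval_lin, ← Matrix.toLin'_apply, Matrix.toLin'_toMatrix', map_one, one_mul,
      eval_eq_S hf, eval_eq_S hf, D.S_refl]

end EData

theorem existsUnique_invol (hf : f.IsHomogeneous 3) (hs : Smooth f) (e : (V K)) (he : e ≠ 0)
    (hE : IsEckardt f e) : ∃! A, IsInvol f e A := by
  obtain ⟨D⟩ := exists_EData hf hs e he hE
  refine ⟨_, D.toMatrix_isInvol hf, fun A hA => ?_⟩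
  rw [← LinearMap.toMatrix'_toLin' A, D.eq_refl hf hs hA]

end Groth.Agent.CubicSurface
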