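import Groth.Agent.CubicSurface.Eckardt

/-! The line through two Eckardt points. -/

namespace Groth.Agent.CubicSurface
open MvPolynomial

variable {K : Type*} [Field K] [CharZero K] [IsAlgClosed K] {f : MvPolynomial (Fin 4) K}

lemma line_expand {e e' : (V K)} (he : S f e e e = 0) (he' : S f e' e' e' = 0) (s t : K) :
    S f (s • e + t • e') (s • e + t • e') (s • e + t • e') =
      3 * s * t * (s * S f e' e e + t * S f e e' e') := by
  simp only [S_add1, S_add2, S_add3, S_smul1, S_smul2, S_smul3]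
  rw [S_comm23 f e e e', S_comm12 f e e' e, S_comm23 f e' e' e, S_comm12 f e' e e', he, he']
  ring

lemma IsEckardt.map (hf : f.IsHomogeneous 3) {e : (V K)} (L : (V K) ≃ₗ[K] (V K)) (hL : ∀ x, S f (L x) (L x) (L x) = S f x x x)
    (h : IsEckardt f e) : IsEckardt f (L e) := by
  obtain ⟨U, hinj, hU⟩ := h
  refine ⟨fun i => (U i).map (L : (V K) →ₗ[K] (V K)), ?_, fun i => ⟨?_, ?_, ?_⟩⟩
  · exact (Submodule.map_injective_of_injective L.injective).comp hinj
  · rw [LinearEquiv.finrank_map_eq, (hU i).1]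
  · exact ⟨e, (hU i).2.1, rfl⟩
  · rintro _ ⟨u, hu, rfl⟩
    rw [eval_eq_S hf, LinearEquiv.coe_coe, hL, ← eval_eq_S hf]
    exact (hU i).2.2 u hu

/-- the homology as an equivalence -/
noncomputable def EData.equiv {e : (V K)} (D : EData f e) : (V K) ≃ₗ[K] (V K) :=
  LinearEquiv.ofLinearMap D.refl D.refl (LinearMap.ext D.refl_refl) (LinearMap.ext D.refl_refl)

@[simp] lemma EData.equiv_apply {e : (V K)} (D : EData f e) (x : (V K)) : D.equiv x = D.refl x := rfl

lemma IsEckardt.smul {e : (V K)} (c : K) (h : IsEckardt f e) : IsEckardt f (c • e) := by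
  obtain ⟨U, hinj, hU⟩ := h
  exact ⟨U, hinj, fun i => ⟨(hU i).1, Submodule.smul_mem _ _ (hU i).2.1, (hU i).2.2⟩⟩

/-- facts about the line through two Eckardt points, not on the surface -/
structure Pair (f : MvPolynomial (Fin 4) K) (e e' : (V K)) where
  D : EData f e
  D' : EData f e'
  a0 : S f e' e e ≠ 0
  b0 : S f e e' e' ≠ 0
  M0 : D.M e' ≠ 0
  M0' : D'.M e ≠ 0
  ha : S f e' e e = D'.M e * S f e e' e'
  hb : S f e e' e' = D.M e' * S f e' e e
  nmem : e' ∉ Submodule.span K {e}
  nmem' : e ∉ Submodule.span K {e'}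

theorem exists_pair (hf : f.IsHomogeneous 3) (hs : Smooth f) {e e' : (V K)} (he : e ≠ 0)
    (hee' : e' ∉ Submodule.span K {e}) (hE : IsEckardt f e) (hE' : IsEckardt f e')
    (hL : ¬ ∀ u ∈ Submodule.span K {e, e'}, eval u f = 0) :
    Nonempty (Pair f e e') := by
  obtain ⟨D⟩ := exists_EData hf hs e he hE
  obtain ⟨D'⟩ := exists_EData hf hs e' (fun h => hee' (h ▸ zero_mem _)) hE'
  have ha : S f e' e e = D'.M e * S f e e' e' := by rw [← D'.hQ e, S_comm23 f e e e', S_comm12 f e e' e]
  have hb : S f e e' e' = D.M e' * S f e' e e := by rw [← D.hQ e', S_comm23 f e' e' e, S_comm12 f e' e e']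
  have hb0 : S f e e' e' ≠ 0 := by
    intro h
    apply hL
    intro u hu
    obtain ⟨s, t, rfl⟩ := Submodule.mem_span_pair.1 hu
    rw [eval_eq_S hf, line_expand D.fe D'.fe, ha, h]; ring
  have hT : S f e' e e ≠ 0 := fun h => hb0 (by rw [hb, h, mul_zero])
  have hM : D.M e' ≠ 0 := fun h => hb0 (by rw [hb, h, zero_mul])
  have hM' : D'.M e ≠ 0 := fun h => hT (by rw [ha, h, zero_mul])
  refine ⟨⟨D, D', hT, hb0, hM, hM', ha, hb, hee', fun h => ?_⟩⟩
  obtain ⟨c, hc⟩ := Submodule.mem_span_singleton.1 h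
  have hc0 : c ≠ 0 := fun h0 => he (by rw [← hc, h0, zero_smul])
  exact hee' (Submodule.mem_span_singleton.2 ⟨c⁻¹, by rw [← hc, inv_smul_smul₀ hc0]⟩)

namespace Pair
variable {e e' : (V K)} (P : Pair f e e')

/-- the third point of the line on the surface -/
noncomputable def third : (V K) := P.D.refl e'

lemma third_eq : P.third = e' - P.D.M e' • e := P.D.refl_apply e'

lemma third_mem : P.third ∈ Submodule.span K {e, e'} := by
  rw [P.third_eq, Submodule.mem_span_pair]
  exact ⟨-P.D.M e', 1, by module⟩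

lemma third_not_mem : P.third ∉ Submodule.span K {e} := by
  intro h
  apply P.nmem
  rw [P.third_eq] at h
  simpa using Submodule.add_mem _ h (Submodule.smul_mem _ (P.D.M e') (Submodule.mem_span_singleton_self e))

lemma third_not_mem' : P.third ∉ Submodule.span K {e'} := by
  intro h
  apply P.nmem'
  rw [P.third_eq] at h
  have := Submodule.sub_mem _ (Submodule.mem_span_singleton_self e') h
  rw [sub_sub_cancel] at this
  simpa [smul_smul, inv_mul_cancel₀ P.M0] using Submodule.smul_mem _ (P.D.M e')⁻¹ this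

/-- every point of the line on the surface is one of the three -/
lemma mem_three (u : (V K)) (hu : u ∈ Submodule.span K {e, e'}) (h : S f u u u = 0) :
    u ∈ Submodule.span K {e} ∨ u ∈ Submodule.span K {e'} ∨ u ∈ Submodule.span K {P.third} := by
  obtain ⟨s, t, rfl⟩ := Submodule.mem_span_pair.1 hu
  rw [line_expand P.D.fe P.D'.fe, P.hb] at h
  have h' : (3 * S f e' e e) * (s * (t * (s + t * P.D.M e'))) = 0 := by linear_combination h
  rcases mul_eq_zero.1 ((mul_eq_zero.1 h').resolve_left (by simp [P.a0])) with h | h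
  · right; left; simp [h, Submodule.mem_span_singleton]
  rcases mul_eq_zero.1 h with h | h
  · left; simp [h, Submodule.mem_span_singleton]
  · right; right
    refine Submodule.mem_span_singleton.2 ⟨t, ?_⟩
    rw [P.third_eq, show s = -(t * P.D.M e') by linear_combination h]; module

lemma third_isEckardt (hf : f.IsHomogeneous 3) (hE' : IsEckardt f e') : IsEckardt f P.third :=
  hE'.map hf P.D.equiv P.D.S_refl

end Pair

theorem line_dichotomy (hf : f.IsHomogeneous 3) (hs : Smooth f) (e e' : (V K)) (he : e ≠ 0)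
    (he' : e' ∉ Submodule.span K {e}) (hE : IsEckardt f e) (hE' : IsEckardt f e') :
    Xor (∀ u ∈ Submodule.span K {e, e'}, eval u f = 0)
      (∃ e'' : (V K), e'' ∈ Submodule.span K {e, e'} ∧ e'' ∉ Submodule.span K {e} ∧ e'' ∉ Submodule.span K {e'} ∧
        IsEckardt f e'' ∧
        ∀ u ∈ Submodule.span K {e, e'}, eval u f = 0 →
          u ∈ Submodule.span K {e} ∨ u ∈ Submodule.span K {e'} ∨ u ∈ Submodule.span K {e''}) := by
  by_cases hL : ∀ u ∈ Submodule.span K {e, e'}, eval u f = 0
  · refine Or.inl ⟨hL, ?_⟩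
    rintro ⟨e'', -, h1, h2, -, hall⟩
    have he'' : e'' ≠ 0 := fun h => h1 (h ▸ zero_mem _)
    have key : ∀ t : K, t ≠ 0 → e + t • e' ∈ Submodule.span K {e''} := by
      intro t ht
      have hm : e + t • e' ∈ Submodule.span K {e, e'} :=
        Submodule.mem_span_pair.2 ⟨1, t, by rw [one_smul]⟩
      rcases hall _ hm (hL _ hm) with h | h | h
      · exfalso; apply he'
        have := Submodule.sub_mem _ h (Submodule.mem_span_singleton_self e)
        rw [add_sub_cancel_left] at this
        exact (Submodule.smul_mem_iff _ ht).1 this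
      · exfalso
        have h3 := Submodule.sub_mem _ h (Submodule.smul_mem _ t (Submodule.mem_span_singleton_self e'))
        rw [add_sub_cancel_right] at h3
        obtain ⟨c, hc⟩ := Submodule.mem_span_singleton.1 h3
        have hc0 : c ≠ 0 := fun h0 => he (by rw [← hc, h0, zero_smul])
        exact he' (Submodule.mem_span_singleton.2 ⟨c⁻¹, by rw [← hc, inv_smul_smul₀ hc0]⟩)
      · exact h
    have h3 := Submodule.sub_mem _ (key 2 two_ne_zero) (key 1 one_ne_zero)
    have e1 : e + (2:K) • e' - (e + (1:K) • e') = e' := by module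
    rw [e1] at h3
    obtain ⟨c, hc⟩ := Submodule.mem_span_singleton.1 h3
    have hc0 : c ≠ 0 := fun h0 => he' (by rw [← hc, h0, zero_smul]; exact zero_mem _)
    exact h2 (Submodule.mem_span_singleton.2 ⟨c⁻¹, by rw [← hc, inv_smul_smul₀ hc0]⟩)
  · obtain ⟨P⟩ := exists_pair hf hs he he' hE hE' hL
    exact Or.inr ⟨⟨P.third, P.third_mem, P.third_not_mem, P.third_not_mem', P.third_isEckardt hf hE',
      fun u hu h => P.mem_three u hu (by rw [← eval_eq_S hf, h])⟩, hL⟩

lemma invol_unique (hf : f.IsHomogeneous 3) (hs : Smooth f) {e : (V K)} (he : e ≠ 0) (hE : IsEckardt f e)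
    {A B : Matrix (Fin 4) (Fin 4) K} (hA : IsInvol f e A) (hB : IsInvol f e B) : A = B :=
  (existsUnique_invol hf hs e he hE).unique hA hB

/-- conjugating the involution of `e'` by that of `e` gives that of the third point -/
lemma conj_invol (hf : f.IsHomogeneous 3) {e e' e'' : (V K)} (D : EData f e) (D' : EData f e') (c : K)
    (hc : e'' = c • D.refl e') :
    IsInvol f e'' (LinearMap.toMatrix' (D.refl ∘ₗ D'.refl ∘ₗ D.refl)) := by
  refine ⟨?_, ?_, ?_, 1, ?_⟩
  · rw [← LinearMap.toMatrix'_comp, ← LinearMap.toMatrix'_id]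
    congr 1
    exact LinearMap.ext fun x => by simp [D.refl_refl, D'.refl_refl]
  · rw [Matrix.toLin'_toMatrix']
    have : LinearMap.ker (D.refl ∘ₗ D'.refl ∘ₗ D.refl - LinearMap.id) = (LinearMap.ker D'.M).map (D.equiv : (V K) →ₗ[K] (V K)) := by
      ext x
      constructor
      · intro h
        refine ⟨D.refl x, ?_, D.refl_refl x⟩
        simp only [LinearMap.mem_ker, LinearMap.sub_apply, LinearMap.comp_apply, LinearMap.id_apply, sub_eq_zero] at h
        have := congrArg D.refl h
        rw [D.refl_refl, D'.refl_apply, sub_eq_self, smul_eq_zero] at this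
        exact this.resolve_right D'.he
      · rintro ⟨y, hy, rfl⟩
        have hy' : D'.M y = 0 := hy
        simp [D.refl_refl, D'.refl_apply, hy']
    rw [this]
    erw [LinearEquiv.finrank_map_eq]
    exact D'.finrank_ker_M
  · rw [← Matrix.toLin'_apply, Matrix.toLin'_toMatrix', hc]
    simp [D.refl_refl, D'.refl_e]
  · apply MvPolynomial.funext
    intro x
    rw [eval_aeval_lin, ← Matrix.toLin'_apply, Matrix.toLin'_toMatrix', map_one, one_mul,
      eval_eq_S hf, eval_eq_S hf]
    simp only [LinearMap.comp_apply, EData.S_refl]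

theorem dihedral (hf : f.IsHomogeneous 3) (hs : Smooth f) (e e' e'' : (V K)) (he : e ≠ 0)
    (he' : e' ∉ Submodule.span K {e}) (he''1 : e'' ∉ Submodule.span K {e}) (he''2 : e'' ∉ Submodule.span K {e'})
    (he''L : e'' ∈ Submodule.span K {e, e'})
    (hE : IsEckardt f e) (hE' : IsEckardt f e') (hE'' : IsEckardt f e'')
    (hL : ¬ ∀ u ∈ Submodule.span K {e, e'}, eval u f = 0)
    (A A' A'' : Matrix (Fin 4) (Fin 4) K) (hA : IsInvol f e A) (hA' : IsInvol f e' A') (hA'' : IsInvol f e'' A'') :
    (¬ ∃ c : K, A * A' = c • (1 : Matrix (Fin 4) (Fin 4) K)) ∧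
      (∃ c : K, (A * A') ^ 3 = c • (1 : Matrix (Fin 4) (Fin 4) K)) ∧ ∃ c : K, A'' = c • (A * A' * A) := by
  obtain ⟨P⟩ := exists_pair hf hs he he' hE hE' hL
  have hA1 := P.D.eq_refl hf hs hA
  have hA2 := P.D'.eq_refl hf hs hA'
  have he''0 : e'' ≠ 0 := fun h => he''1 (h ▸ zero_mem _)
  obtain ⟨U, -, hU⟩ := id hE''
  have hf'' : S f e'' e'' e'' = 0 := by rw [← eval_eq_S hf]; exact (hU 0).2.2 _ (hU 0).2.1
  obtain ⟨c, hc⟩ := Submodule.mem_span_singleton.1
    (((P.mem_three e'' he''L hf'').resolve_left he''1).resolve_left he''2)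
  obtain ⟨s, t, hst⟩ := Submodule.mem_span_pair.1 he''L
  have hz : S f e'' e'' e'' = 0 := hf''
  rw [← hst, line_expand P.D.fe P.D'.fe, P.ha] at hz
  have hs0 : s ≠ 0 := fun h => he''2 (by rw [← hst, h]; simp [Submodule.mem_span_singleton])
  have ht0 : t ≠ 0 := fun h => he''1 (by rw [← hst, h]; simp [Submodule.mem_span_singleton])
  have hts : s * P.D'.M e + t = 0 := by
    have : (3 * s * t * S f e e' e') * (s * P.D'.M e + t) = 0 := by linear_combination hz
    exact (mul_eq_zero.1 this).resolve_left (by simp [hs0, ht0, P.b0])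
  have hd : e'' = s • P.D'.refl e := by
    rw [EData.refl_apply, ← hst, show t = -(s * P.D'.M e) by linear_combination hts]; module
  have toM : ∀ (B : Matrix (Fin 4) (Fin 4) K), B = LinearMap.toMatrix' (Matrix.toLin' B) :=
    fun B => (LinearMap.toMatrix'_toLin' B).symm
  have hB1 : A * A' * A = A'' := by
    refine invol_unique hf hs he''0 hE'' ?_ hA''
    rw [toM (A * A' * A), Matrix.toLin'_mul, Matrix.toLin'_mul, hA1, hA2, LinearMap.comp_assoc]
    exact conj_invol hf P.D P.D' c hc.symm
  have hB2 : A' * A * A' = A'' := by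
    refine invol_unique hf hs he''0 hE'' ?_ hA''
    rw [toM (A' * A * A'), Matrix.toLin'_mul, Matrix.toLin'_mul, hA1, hA2, LinearMap.comp_assoc]
    exact conj_invol hf P.D' P.D s hd
  refine ⟨?_, ⟨1, ?_⟩, 1, by rw [hB1, one_smul]⟩
  · rintro ⟨k, hk⟩
    have h1 : A' = k • A := by
      have := congrArg (A * ·) hk
      simpa [← mul_assoc, hA.1] using this
    have h2 : A'.mulVec e = (-k) • e := by
      rw [h1, Matrix.smul_mulVec, hA.2.2.1]; module
    rw [← Matrix.toLin'_apply, hA2, EData.refl_apply] at h2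
    apply P.nmem
    refine Submodule.mem_span_singleton.2 ⟨(P.D'.M e)⁻¹ * (1 + k), ?_⟩
    have h4 : P.D'.M e • e' = (1 + k) • e := by linear_combination (norm := module) -h2
    rw [mul_smul, ← h4, inv_smul_smul₀ P.M0']
  · rw [one_smul, pow_succ, pow_two]
    calc A * A' * (A * A') * (A * A') = (A * A' * A) * (A' * A * A') := by simp only [mul_assoc]
      _ = 1 := by rw [hB1, hB2, hA''.1]

end Groth.Agent.CubicSurface
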