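import Groth.Agent.CubicSurface.ConicBundle

/-! The first polar of a point which is not a T-point, on the tangent plane at that point. -/

namespace Groth.Agent.CubicSurface
open MvPolynomial

variable {K : Type*} [Field K] [CharZero K] [IsAlgClosed K] {F : MvPolynomial (Fin 4) K}

omit [CharZero K] in
theorem quad_factor (A B C : K) :
    ∃ a b c d : K, ∀ u v : K, A * u ^ 2 + B * u * v + C * v ^ 2 = (a * u + b * v) * (c * u + d * v) := by
  by_cases hA : A = 0
  · exact ⟨0, 1, B, C, fun u v => by rw [hA]; ring⟩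
  · obtain ⟨s, hs⟩ := IsAlgClosed.exists_root (Polynomial.C A * Polynomial.X ^ 2 +
        Polynomial.C B * Polynomial.X + Polynomial.C C) (by rw [Polynomial.degree_quadratic hA]; norm_num)
    simp at hs
    exact ⟨1, -s, A, B + A * s, fun u v => by linear_combination v ^ 2 * hs⟩

omit [CharZero K] in
theorem cubic_factor (A B C D : K) :
    ∃ a b c d e g : K, ∀ u v : K, A * u ^ 3 + B * u ^ 2 * v + C * u * v ^ 2 + D * v ^ 3 =
      (a * u + b * v) * (c * u + d * v) * (e * u + g * v) := by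
  by_cases hA : A = 0
  · obtain ⟨a, b, c, d, h⟩ := quad_factor B C D
    exact ⟨0, 1, a, b, c, d, fun u v => by rw [hA]; linear_combination v * h u v⟩
  · obtain ⟨r, hr⟩ := IsAlgClosed.exists_root (Polynomial.C A * Polynomial.X ^ 3 +
        Polynomial.C B * Polynomial.X ^ 2 + Polynomial.C C * Polynomial.X + Polynomial.C D)
      (by rw [Polynomial.degree_cubic hA]; norm_num)
    simp at hr
    obtain ⟨a, b, c, d, h⟩ := quad_factor A (B + A * r) (C + B * r + A * r ^ 2)
    exact ⟨1, -r, a, b, c, d, fun u v => by linear_combination (u - r * v) * h u v + v ^ 3 * hr⟩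

/-- a linear form as a polynomial -/
noncomputable def linPoly (φ : (V K) →ₗ[K] K) : MvPolynomial (Fin 4) K :=
  ∑ i, C (φ (Pi.single i 1)) * X i

omit [CharZero K] [IsAlgClosed K] in
theorem eval_linPoly (φ : (V K) →ₗ[K] K) (x : V K) : eval x (linPoly φ) = φ x := by
  conv_rhs => rw [← Finset.univ_sum_single x, map_sum]
  simp only [linPoly, map_sum, map_mul, eval_C, eval_X]
  refine Finset.sum_congr rfl fun i _ => ?_
  rw [show (Pi.single i (x i) : V K) = x i • Pi.single i 1 by rw [← Pi.single_smul, smul_eq_mul, mul_one],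
    map_smul, smul_eq_mul, mul_comm]

omit [CharZero K] [IsAlgClosed K] in
theorem linPoly_homogeneous (φ : (V K) →ₗ[K] K) : (linPoly φ).IsHomogeneous 1 :=
  IsHomogeneous.sum _ _ _ fun i _ => (isHomogeneous_C_mul_X _ i)

omit [IsAlgClosed K] in
theorem eval_tangent (hF : F.IsHomogeneous 3) (a x : V K) :
    eval x (∑ i : Fin 4, C (eval a (pderiv i F)) * X i) = 3 * S F a a x := by
  have h : linPoly ((3 : K) • SL F a a) = ∑ i : Fin 4, C (eval a (pderiv i F)) * X i :=
    Finset.sum_congr rfl fun i _ => by rw [eval_pderiv_eq_S hF]; simp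
  rw [← h, eval_linPoly]; simp

omit [IsAlgClosed K] in
theorem eval_polar (hF : F.IsHomogeneous 3) (a x : V K) :
    eval x (∑ i : Fin 4, a i • pderiv i F) = 3 * S F x x a := by
  have h : ∀ i : Fin 4, eval x (pderiv i F) = ((3 : K) • SL F x x) (Pi.single i 1) := fun i => by
    rw [eval_pderiv_eq_S hF]; simp
  rw [map_sum]
  simp only [smul_eq_C_mul, map_mul, eval_C, h]
  have h2 := eval_linPoly ((3 : K) • SL F x x) a
  simp only [linPoly, map_sum, map_mul, eval_C, eval_X] at h2
  simp only [mul_comm (a _)]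
  rw [h2]; simp

theorem polar_two_lines (hF : F.IsHomogeneous 3) (a : V K) (ha : a ≠ 0) (hFa : S F a a a = 0)
    (hsm : SL F a a ≠ 0)
    (hT : ∀ φ ψ χ : (V K) →ₗ[K] K,
      F - linPoly φ * linPoly ψ * linPoly χ ∉ Ideal.span {linPoly ((3 : K) • SL F a a)}) :
    ∃ U₁ U₂ : Submodule K (V K), Module.finrank K ↥U₁ = 2 ∧ Module.finrank K ↥U₂ = 2 ∧ a ∈ U₁ ∧ a ∈ U₂ ∧
      U₁ ≤ LinearMap.ker (SL F a a) ∧ U₂ ≤ LinearMap.ker (SL F a a) ∧
      ∀ x ∈ LinearMap.ker (SL F a a), (S F x x a = 0 ↔ x ∈ U₁ ∨ x ∈ U₂) := by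
  classical
  set H := LinearMap.ker (SL F a a) with hH
  have hHd : Module.finrank K H = 3 := finrank_ker_eq_three _ hsm
  have haH : a ∈ H := hFa
  obtain ⟨e, he, hea⟩ : ∃ e ∈ H, e ∉ Submodule.span K {a} := SetLike.not_le_iff_exists.1 fun h => by
    have := Submodule.finrank_mono h
    rw [hHd, finrank_span_singleton ha] at this
    omega
  obtain ⟨b, hb, -, hdec⟩ := exists_decomp hHd haH ha he hea
  obtain ⟨z, hz⟩ : ∃ z, SL F a a z ≠ 0 := by
    by_contra hc; push Not at hc; exact hsm (LinearMap.ext hc)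
  set d := ((1 : K) / 3 / SL F a a z) • z with hd
  have hd1 : 3 * SL F a a d = 1 := by
    rw [hd, map_smul, smul_eq_mul, div_mul_cancel₀ _ hz]; norm_num
  set θ : (V K) →ₗ[K] K := (3 : K) • SL F a a with hθ
  let Φ : (Fin 4 → K) →ₗ[K] V K := Fintype.linearCombination K ![a, e, b, d]
  have hΦ : ∀ g, Φ g = g 0 • a + g 1 • e + g 2 • b + g 3 • d := fun g => by
    simp [Φ, Fintype.linearCombination_apply, Fin.sum_univ_four]
  have hsurj : Function.Surjective Φ := fun x => by
    obtain ⟨α, β, γ, h⟩ := hdec (x - θ x • d) (by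
      show SL F a a _ = 0
      rw [map_sub, map_smul, smul_eq_mul, hθ, LinearMap.smul_apply, smul_eq_mul]
      linear_combination (-SL F a a x) * hd1)
    exact ⟨![α, β, γ, θ x], by rw [hΦ]; simp [← h]⟩
  let E := LinearEquiv.ofBijective Φ ⟨LinearMap.injective_iff_surjective.2 hsurj, hsurj⟩
  let u : (V K) →ₗ[K] K := (LinearMap.proj 1).comp E.symm.toLinearMap
  let v : (V K) →ₗ[K] K := (LinearMap.proj 2).comp E.symm.toLinearMap
  have huv : ∀ g, u (Φ g) = g 1 ∧ v (Φ g) = g 2 := fun g => by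
    have h : E.symm (Φ g) = g := E.symm_apply_apply g
    constructor <;> simp [u, v, h]
  have hθg : ∀ g, θ (Φ g) = g 3 := fun g => by
    have h1 : SL F a a a = 0 := haH
    have h2 : SL F a a e = 0 := he
    have h3 : SL F a a b = 0 := hb
    simp only [hΦ, hθ, LinearMap.smul_apply, map_add, map_smul, smul_eq_mul, h1, h2, h3]
    linear_combination g 3 * hd1
  -- restricted forms
  have haa : ∀ x ∈ H, S F a a x = 0 := fun x hx => hx
  have hQ : ∀ x ∈ H, S F x x a =
      S F e e a * u x ^ 2 + 2 * S F e b a * u x * v x + S F b b a * v x ^ 2 := fun x hx => by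
    obtain ⟨g, rfl⟩ := hsurj x
    obtain ⟨hu, hv⟩ := huv g
    have h3 : g 3 = 0 := by
      rw [← hθg g, hθ, LinearMap.smul_apply, show SL F a a (Φ g) = 0 from hx, smul_zero]
    rw [hu, hv, hΦ, h3, zero_smul, add_zero, S_sq_three, hFa]
    rw [show S F a e a = 0 by rw [S_comm23]; exact haa e he, show S F a b a = 0 by rw [S_comm23]; exact haa b hb]
    ring
  obtain ⟨c₁, d₁, c₂, d₂, hfac⟩ := quad_factor (S F e e a) (2 * S F e b a) (S F b b a)
  have hne : ¬ (S F e e a = 0 ∧ 2 * S F e b a = 0 ∧ S F b b a = 0) := fun ⟨h11, h12, h22⟩ => by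
    obtain ⟨p₁, p₂, p₃, p₄, p₅, p₆, hc⟩ := cubic_factor (S F e e e) (3 * S F e e b) (3 * S F e b b) (S F b b b)
    refine hT (p₁ • u + p₂ • v) (p₃ • u + p₄ • v) (p₅ • u + p₆ • v) ?_
    set I := Ideal.span {linPoly θ} with hI
    let σ : Fin 4 → MvPolynomial (Fin 4) K := fun i => X i - linPoly θ * C (d i)
    have h1 : F - aeval σ F ∈ I := by
      rw [← Ideal.Quotient.mk_eq_mk_iff_sub_mem]
      have hext : (Ideal.Quotient.mkₐ K I).comp (aeval σ) = Ideal.Quotient.mkₐ K I := by
        refine MvPolynomial.algHom_ext fun i => ?_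
        simp only [AlgHom.comp_apply, aeval_X, Ideal.Quotient.mkₐ_eq_mk, σ]
        rw [Ideal.Quotient.mk_eq_mk_iff_sub_mem, sub_right_comm, sub_self, zero_sub, neg_mem_iff]
        exact I.mul_mem_right _ (Ideal.mem_span_singleton_self _)
      exact (congrArg (fun φ : MvPolynomial (Fin 4) K →ₐ[K] _ => φ F) hext).symm
    suffices h2 : aeval σ F = linPoly (p₁ • u + p₂ • v) * linPoly (p₃ • u + p₄ • v) * linPoly (p₅ • u + p₆ • v) by
      rwa [← h2]
    refine MvPolynomial.funext fun x => ?_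
    have hev : eval x (aeval σ F) = eval (x - θ x • d) F := by
      have hext : (aeval x).comp (aeval σ) = aeval (x - θ x • d) := by
        refine MvPolynomial.algHom_ext fun i => ?_
        simp [σ, MvPolynomial.aeval_eq_eval, eval_linPoly]
      have := congrArg (fun φ : MvPolynomial (Fin 4) K →ₐ[K] K => φ F) hext
      simpa [MvPolynomial.aeval_eq_eval] using this
    rw [hev, eval_eq_S hF, map_mul, map_mul, eval_linPoly, eval_linPoly, eval_linPoly]
    obtain ⟨g, rfl⟩ := hsurj x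
    obtain ⟨hu, hv⟩ := huv g
    simp only [LinearMap.add_apply, LinearMap.smul_apply, smul_eq_mul, hu, hv, ← hc, hθg]
    have hxe : Φ g - g 3 • d = g 0 • a + g 1 • e + g 2 • b := by rw [hΦ, add_sub_cancel_right]
    have h12' : S F e b a = 0 := (mul_eq_zero.1 h12).resolve_left two_ne_zero
    rw [hxe, S_self_three, hFa, haa e he, haa b hb,
      show S F a e e = 0 by rw [S_comm12, S_comm23]; exact h11,
      show S F a b b = 0 by rw [S_comm12, S_comm23]; exact h22,
      show S F a e b = 0 by rw [S_comm12, S_comm23]; exact h12']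
    ring
  have hline : ∀ p q : K, ¬ (p = 0 ∧ q = 0) →
      Module.finrank K ↥(H ⊓ LinearMap.ker (p • u + q • v)) = 2 ∧ a ∈ H ⊓ LinearMap.ker (p • u + q • v) := by
    intro p q hpq
    have hua : u a = 0 ∧ v a = 0 := by
      have h := huv ![1, 0, 0, 0]
      rw [hΦ] at h
      simpa using h
    refine ⟨?_, haH, by simp [hua.1, hua.2]⟩
    have hval : ∀ g : Fin 4 → K, g 3 = 0 → Φ g ∈ H ∧ (p • u + q • v) (Φ g) = p * g 1 + q * g 2 := fun g h3 => by
      refine ⟨?_, by simp [(huv g).1, (huv g).2]⟩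
      have h := hθg g
      rw [h3, hθ, LinearMap.smul_apply, smul_eq_mul] at h
      exact (mul_eq_zero.1 h).resolve_left three_ne_zero
    obtain ⟨w, hwH, hw⟩ : ∃ w ∈ H, (p • u + q • v) w ≠ 0 := by
      by_cases hp : p = 0
      · exact ⟨_, (hval ![0, 0, 1, 0] rfl).1, by rw [(hval ![0, 0, 1, 0] rfl).2]; simpa [hp] using hpq⟩
      · exact ⟨_, (hval ![0, 1, 0, 0] rfl).1, by rw [(hval ![0, 1, 0, 0] rfl).2]; simpa using hp⟩
    have hk := finrank_ker_eq_three (p • u + q • v) fun h => hw (by rw [h]; rfl)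
    have h1 := Submodule.finrank_sup_add_finrank_inf_eq H (LinearMap.ker (p • u + q • v))
    have h2 : LinearMap.ker (p • u + q • v) < H ⊔ LinearMap.ker (p • u + q • v) :=
      lt_of_le_of_ne le_sup_right fun h => hw (LinearMap.mem_ker.1 (h ▸ Submodule.mem_sup_left hwH))
    have h3 := Submodule.finrank_lt_finrank_of_lt h2
    have h4 := Submodule.finrank_le (H ⊔ LinearMap.ker (p • u + q • v))
    rw [Module.finrank_fin_fun] at h4
    omega
  have n₁ : ¬ (c₁ = 0 ∧ d₁ = 0) := fun ⟨h1, h2⟩ => hne (by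
    have e1 := hfac 1 0; have e2 := hfac 0 1; have e3 := hfac 1 1
    simp [h1, h2] at e1 e2 e3
    simp [e1, e2] at e3
    exact ⟨e1, by simpa using e3, e2⟩)
  have n₂ : ¬ (c₂ = 0 ∧ d₂ = 0) := fun ⟨h1, h2⟩ => hne (by
    have e1 := hfac 1 0; have e2 := hfac 0 1; have e3 := hfac 1 1
    simp [h1, h2] at e1 e2 e3
    simp [e1, e2] at e3
    exact ⟨e1, by simpa using e3, e2⟩)
  refine ⟨_, _, (hline c₁ d₁ n₁).1, (hline c₂ d₂ n₂).1, (hline c₁ d₁ n₁).2, (hline c₂ d₂ n₂).2,
    inf_le_left, inf_le_left, fun x hx => ?_⟩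
  simp only [Submodule.mem_inf, LinearMap.mem_ker, hx, true_and, hQ x hx, hfac, mul_eq_zero, LinearMap.add_apply,
    LinearMap.smul_apply, smul_eq_mul]

end Groth.Agent.CubicSurface
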