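import Groth.Agent.CubicSurface.PlanesThroughLine
import Groth.Agent.Gen15.Lines
import Groth.Agent.CommAlg4.CommonZero

/-! Lines of a smooth cubic threefold meeting two intersecting lines. -/

namespace Groth.Agent.CubicSurface
open MvPolynomial

variable {K : Type} [Field K] [CharZero K] [IsAlgClosed K]

/-- the substitution of a linear map, as a family of linear forms -/
noncomputable def substOf {N M : ℕ} (φ : (Fin N → K) →ₗ[K] (Fin M → K)) (b : Fin M) : MvPolynomial (Fin N) K :=
  ∑ i, C (φ (Pi.single i 1) b) * X i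

omit [CharZero K] [IsAlgClosed K] in
theorem eval_substOf {N M : ℕ} (φ : (Fin N → K) →ₗ[K] (Fin M → K)) (x : Fin N → K) (b : Fin M) :
    eval x (substOf φ b) = φ x b := by
  have h : ∀ i, φ (Pi.single i (x i)) = x i • φ (Pi.single i 1) := fun i => by
    rw [← map_smul, ← Pi.single_smul, smul_eq_mul, mul_one]
  conv_rhs => rw [← Finset.univ_sum_single x, map_sum, Finset.sum_apply]
  simp only [substOf, map_sum, map_mul, eval_C, eval_X, h, Pi.smul_apply, smul_eq_mul]
  exact Finset.sum_congr rfl fun i _ => mul_comm _ _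

omit [CharZero K] [IsAlgClosed K] in
theorem eval_pullback {N M : ℕ} (φ : (Fin N → K) →ₗ[K] (Fin M → K)) (x : Fin N → K)
    (P : MvPolynomial (Fin M) K) : eval x (aeval (substOf φ) P) = eval (φ x) P := by
  rw [Gen15.eval_aeval']
  simp only [eval_substOf]

omit [CharZero K] [IsAlgClosed K] in
theorem pullback_homogeneous {N M d : ℕ} (φ : (Fin N → K) →ₗ[K] (Fin M → K)) {P : MvPolynomial (Fin M) K}
    (hP : P.IsHomogeneous d) : (aeval (substOf φ) P).IsHomogeneous d := by
  have := hP.aeval (fun b => substOf φ b) (n := 1) fun b =>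
    IsHomogeneous.sum _ _ _ fun i _ => isHomogeneous_C_mul_X _ i
  simpa using this

omit [CharZero K] in
/-- A smooth cubic threefold contains no plane. -/
theorem threefold_no_plane {f : MvPolynomial (Fin 5) K} (hf : f.IsHomogeneous 3)
    (hsm : ∀ u : Fin 5 → K, u ≠ 0 → eval u f = 0 → ∃ i : Fin 5, eval u (pderiv i f) ≠ 0)
    (W : Submodule K (Fin 5 → K)) (hW : Module.finrank K W = 3) (hfW : ∀ u ∈ W, eval u f = 0) : False := by
  classical
  obtain ⟨C', hC'⟩ := Submodule.exists_isCompl W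
  have hd := Submodule.finrank_add_eq_of_isCompl hC'
  rw [hW, Module.finrank_fin_fun] at hd
  let bW := Module.finBasisOfFinrankEq K W hW
  let bC := Module.finBasisOfFinrankEq K C' (show Module.finrank K C' = 2 by omega)
  let φ : (Fin 3 → K) →ₗ[K] (Fin 5 → K) := W.subtype.comp bW.equivFun.symm.toLinearMap
  have hφW : ∀ x, φ x ∈ W := fun x => (bW.equivFun.symm x).2
  have hzero : aeval (substOf φ) f = 0 := MvPolynomial.funext fun x => by
    rw [eval_pullback, hfW _ (hφW x), map_zero]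
  let T : Fin 2 → MvPolynomial (Fin 3) K := fun j => ∑ b, C ((bC j : Fin 5 → K) b) * aeval (substOf φ) (pderiv b f)
  have h0 : ∀ j ∈ (Finset.univ : Finset (Fin 2)), eval 0 (T j) = 0 := fun j _ => by
    simp only [T, map_sum, map_mul, eval_C, eval_pullback, map_zero]
    refine Finset.sum_eq_zero fun b _ => mul_eq_zero_of_right _ ?_
    have h2 : (pderiv b f).IsHomogeneous 2 := hf.pderiv
    simpa [MvPolynomial.eval_zero', MvPolynomial.constantCoeff_eq] using h2.coeff_eq_zero (d := 0) (by simp)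
  obtain ⟨x, hx0, hx⟩ := CommAlg4.exists_ne_zero_common_zero Finset.univ T h0 (by simp)
  have hu : φ x ≠ 0 := fun h => hx0 (bW.equivFun.symm.injective (by
    rw [map_zero]; exact Subtype.ext h))
  obtain ⟨i, hi⟩ := hsm _ hu (hfW _ (hφW x))
  let g : (Fin 5 → K) →ₗ[K] K := Fintype.linearCombination K fun b => eval (φ x) (pderiv b f)
  have hg : ∀ w, g w = ∑ b, w b * eval (φ x) (pderiv b f) := fun w => by
    simp [g, Fintype.linearCombination_apply]
  have hgW : ∀ a : Fin 3, g (φ (Pi.single a 1)) = 0 := fun a => by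
    have h1 := congrArg (fun P => eval x (pderiv a P)) hzero
    simp only [Gen15.pderiv_aeval', map_sum, map_mul, eval_pullback, map_zero] at h1
    rw [hg]
    refine Eq.trans (Finset.sum_congr rfl fun b _ => ?_) h1
    congr 1
    simp [substOf, pderiv_X, Pi.single_apply]
  have hgC : ∀ j : Fin 2, g (bC j : Fin 5 → K) = 0 := fun j => by
    have h1 := hx j (Finset.mem_univ _)
    simp only [T, map_sum, map_mul, eval_C, eval_pullback] at h1
    rw [hg]; exact h1
  have hg0 : g = 0 := by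
    have hWk : W ≤ LinearMap.ker g := fun w hw => by
      have : g.comp φ = 0 := (Pi.basisFun K (Fin 3)).ext fun a => by simpa using hgW a
      have h := LinearMap.congr_fun this (bW.equivFun ⟨w, hw⟩)
      simpa [φ] using h
    have hCk : C' ≤ LinearMap.ker g := fun w hw => by
      have : g.comp C'.subtype = 0 := bC.ext fun j => hgC j
      exact LinearMap.congr_fun this ⟨w, hw⟩
    exact LinearMap.ker_eq_top.1 (top_le_iff.1 (hC'.codisjoint.eq_top.ge.trans (sup_le hWk hCk)))
  have := hg (Pi.single i 1)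
  rw [hg0] at this
  simp [Pi.single_apply] at this
  exact hi this.symm

theorem two_lines_meeting {f : MvPolynomial (Fin 5) K} (hf : f.IsHomogeneous 3)
    (hsm : ∀ u : Fin 5 → K, u ≠ 0 → eval u f = 0 → ∃ i : Fin 5, eval u (pderiv i f) ≠ 0)
    (L₁ L₂ : Submodule K (Fin 5 → K)) (h₁ : Module.finrank K ↥L₁ = 2) (h₂ : Module.finrank K ↥L₂ = 2)
    (hf₁ : ∀ u ∈ L₁, eval u f = 0) (hf₂ : ∀ u ∈ L₂, eval u f = 0)
    (hne : L₁ ≠ L₂) (p : Fin 5 → K) (hp0 : p ≠ 0) (hp1 : p ∈ L₁) (hp2 : p ∈ L₂) :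
    ∃ L₃ : Submodule K (Fin 5 → K), ∀ L : Submodule K (Fin 5 → K), Module.finrank K L = 2 →
      (∀ u ∈ L, eval u f = 0) → L ≤ L₁ ⊔ L₂ → p ∈ L ∨ L = L₃ := by
  classical
  have pick : ∀ L : Submodule K (Fin 5 → K), Module.finrank K L = 2 → p ∈ L →
      ∃ a ∈ L, L = Submodule.span K {p, a} := fun L hL hp => by
    obtain ⟨a, ha, han⟩ : ∃ a ∈ L, a ∉ Submodule.span K {p} := SetLike.not_le_iff_exists.1 fun h => by
      have := Submodule.finrank_mono h
      rw [hL, finrank_span_singleton hp0] at this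
      omega
    refine ⟨a, ha, (Submodule.eq_of_le_of_finrank_le (Submodule.span_le.2 ?_) ?_).symm⟩
    · rintro y (rfl | rfl) <;> assumption
    · have h2 : Submodule.span K {p} < Submodule.span K {p, a} :=
        lt_of_le_of_ne (Submodule.span_mono (by simp)) fun h => han (h ▸ Submodule.subset_span (by simp))
      have := Submodule.finrank_lt_finrank_of_lt h2
      rw [finrank_span_singleton hp0] at this
      omega
  obtain ⟨a, ha, hA⟩ := pick L₁ h₁ hp1
  obtain ⟨b, hb, hB⟩ := pick L₂ h₂ hp2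
  have hPi : Module.finrank K ↥(L₁ ⊔ L₂) = 3 := by
    have h := Submodule.finrank_sup_add_finrank_inf_eq L₁ L₂
    have h3 : 1 ≤ Module.finrank K ↥(L₁ ⊓ L₂) := by
      rw [Submodule.one_le_finrank_iff]
      exact fun h0 => hp0 (by simpa [h0] using (Submodule.mem_inf.2 ⟨hp1, hp2⟩ : p ∈ L₁ ⊓ L₂))
    have h4 : L₁ ⊓ L₂ < L₁ := lt_of_le_of_ne inf_le_left fun e =>
      hne (Submodule.eq_of_le_of_finrank_le (inf_eq_left.1 e) (by rw [h₁, h₂]))
    have := Submodule.finrank_lt_finrank_of_lt h4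
    omega
  let φ : (Fin 4 → K) →ₗ[K] (Fin 5 → K) := Fintype.linearCombination K ![p, a, b, 0]
  have hφ : ∀ x, φ x = x 0 • p + x 1 • a + x 2 • b := fun x => by
    simp [φ, Fintype.linearCombination_apply, Fin.sum_univ_four]
  set g := aeval (substOf φ) f with hg
  have hgh : g.IsHomogeneous 3 := pullback_homogeneous φ hf
  let e : Fin 4 → V K := fun i => Pi.single i 1
  have hval : ∀ x y z : K, S g (x • e 0 + y • e 1 + z • e 2) (x • e 0 + y • e 1 + z • e 2)
      (x • e 0 + y • e 1 + z • e 2) = eval (x • p + y • a + z • b) f := fun x y z => by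
    rw [← eval_eq_S hgh, hg, eval_pullback]
    simp [hφ, e]
  let U₁ : Submodule K (V K) := Submodule.span K {e 0, e 1}
  let U₂ : Submodule K (V K) := Submodule.span K {e 0, e 2}
  have hU₁ : ∀ u ∈ U₁, S g u u u = 0 := fun u hu => by
    obtain ⟨x, y, rfl⟩ := Submodule.mem_span_pair.1 hu
    have h := hval x y 0
    rw [zero_smul, zero_smul, add_zero, add_zero] at h
    rw [h]; exact hf₁ _ (hA ▸ Submodule.mem_span_pair.2 ⟨x, y, rfl⟩)
  have hU₂ : ∀ u ∈ U₂, S g u u u = 0 := fun u hu => by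
    obtain ⟨x, y, rfl⟩ := Submodule.mem_span_pair.1 hu
    have h := hval x 0 y
    rw [zero_smul, zero_smul, add_zero, add_zero] at h
    rw [h]; exact hf₂ _ (hB ▸ Submodule.mem_span_pair.2 ⟨x, y, rfl⟩)
  have m10 : e 0 ∈ U₁ := Submodule.subset_span (by simp)
  have m11 : e 1 ∈ U₁ := Submodule.subset_span (by simp)
  have m20 : e 0 ∈ U₂ := Submodule.subset_span (by simp)
  have m22 : e 2 ∈ U₂ := Submodule.subset_span (by simp)
  let A := 6 * S g (e 0) (e 1) (e 2)
  let B := 3 * S g (e 1) (e 1) (e 2)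
  let D := 3 * S g (e 1) (e 2) (e 2)
  have hform : ∀ x y z : K, eval (x • p + y • a + z • b) f = y * (z * (A * x + B * y + D * z)) := fun x y z => by
    rw [← hval, S_self_three, hU₁ _ m10, hU₁ _ m11, hU₂ _ m22, polar_of_subspace hU₁ m10 m11,
      polar_of_subspace hU₂ m20 m22,
      show S g (e 0) (e 1) (e 1) = 0 by rw [S_comm12, S_comm23]; exact polar_of_subspace hU₁ m11 m10,
      show S g (e 0) (e 2) (e 2) = 0 by rw [S_comm12, S_comm23]; exact polar_of_subspace hU₂ m22 m20]
    ring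
  have hmem : ∀ u ∈ L₁ ⊔ L₂, ∃ x y z : K, u = x • p + y • a + z • b := fun u hu => by
    obtain ⟨s, hs, t, ht, rfl⟩ := Submodule.mem_sup.1 hu
    obtain ⟨x, y, rfl⟩ := Submodule.mem_span_pair.1 (hA ▸ hs)
    obtain ⟨x', z, rfl⟩ := Submodule.mem_span_pair.1 (hB ▸ ht)
    exact ⟨x + x', y, z, by module⟩
  let φ₃ : (Fin 3 → K) →ₗ[K] (Fin 5 → K) := Fintype.linearCombination K ![p, a, b]
  have hφ₃ : ∀ x, φ₃ x = x 0 • p + x 1 • a + x 2 • b := fun x => by
    simp [φ₃, Fintype.linearCombination_apply, Fin.sum_univ_three]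
  have hrange : LinearMap.range φ₃ = L₁ ⊔ L₂ := by
    refine le_antisymm ?_ fun u hu => ?_
    · rintro _ ⟨x, rfl⟩
      rw [hφ₃]
      exact add_mem (add_mem (Submodule.mem_sup_left (L₁.smul_mem _ hp1)) (Submodule.mem_sup_left (L₁.smul_mem _ ha)))
        (Submodule.mem_sup_right (L₂.smul_mem _ hb))
    · obtain ⟨x, y, z, rfl⟩ := hmem u hu
      exact ⟨![x, y, z], by simp [hφ₃]⟩
  have hinj : Function.Injective φ₃ := by
    rw [← LinearMap.ker_eq_bot, ← Submodule.finrank_eq_zero]
    have := LinearMap.finrank_range_add_finrank_ker φ₃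
    rw [hrange, hPi, Module.finrank_fin_fun] at this
    omega
  let ℓ : (Fin 3 → K) →ₗ[K] K := A • LinearMap.proj 0 + B • LinearMap.proj 1 + D • LinearMap.proj 2
  have hℓ : ℓ ≠ 0 := fun h => threefold_no_plane hf hsm (L₁ ⊔ L₂) hPi fun u hu => by
    obtain ⟨x, y, z, rfl⟩ := hmem u hu
    have h0 := LinearMap.congr_fun h ![x, y, z]
    simp [ℓ] at h0
    rw [hform, h0, mul_zero, mul_zero]
  refine ⟨(LinearMap.ker ℓ).map φ₃, fun L hL hLf hle => ?_⟩
  let L' : Submodule K (Fin 3 → K) := L.comap φ₃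
  have hmap : L'.map φ₃ = L := Submodule.map_comap_eq_of_le (hle.trans hrange.ge)
  have hL' : Module.finrank K L' = 2 := by
    have h := (L'.equivMapOfInjective φ₃ hinj).finrank_eq
    rw [hmap, hL] at h
    exact h
  have hk : ∀ i : Fin 3, Module.finrank K (LinearMap.ker (LinearMap.proj i : (Fin 3 → K) →ₗ[K] K)) = 2 :=
    fun i => finrank_ker_three _ fun h => by simpa using LinearMap.congr_fun h (Pi.single i 1)
  have he : ∀ i : Fin 3, i ≠ 0 → (∀ u ∈ L', u i = 0) → p ∈ L := fun i hi h => by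
    have h' : L' = LinearMap.ker (LinearMap.proj i) := Submodule.eq_of_le_of_finrank_le h (by rw [hk, hL'])
    have : (Pi.single 0 1 : Fin 3 → K) ∈ L' := by rw [h', LinearMap.mem_ker]; simp [hi]
    simpa [L', hφ₃] using this
  rcases mul_three_zero_on L' (LinearMap.proj 1) (LinearMap.proj 2) ℓ (fun u hu => by
      have := hLf _ hu
      rw [hφ₃, hform] at this
      simpa [ℓ] using this) with h | h | h
  · exact Or.inl (he 1 (by decide) h)
  · exact Or.inl (he 2 (by decide) h)
  · exact Or.inr (hmap.symm.trans (congrArg (Submodule.map φ₃) (Submodule.eq_of_le_of_finrank_le h (by rw [finrank_ker_three _ hℓ, hL']))))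

end Groth.Agent.CubicSurface
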